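import Groth.Prelude.Def_UnitsSh
import Groth.Agent.Lib.ZarCoh.Basic
import Groth.Agent.Lib.TensorMod.Dual
import Mathlib.Topology.Sheaves.SheafCondition.UniqueGluing

/-!
# Sections of Zariski sheaves, units, and boundaries of global sections
-/

universe u

open CategoryTheory CategoryTheory.Limits AlgebraicGeometry Opposite TopologicalSpace CategoryTheory.Abelian

noncomputable section

namespace Groth.Agent.Lib.ZarH1Units.Zar

open Groth.Agent.Lib.ZarCoh.Basic
open Groth.Agent.Lib.TensorMod.Dual (rf)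

variable {X : Scheme.{u}}

/-- Sections over an open. -/
abbrev sc (F : CohTop.Ab X.toTopCat) (W : X.Opens) : Type u := F.obj.obj (op W)

/-- Restriction of sections. -/
def rsc (F : CohTop.Ab X.toTopCat) {W U : X.Opens} (h : W ≤ U) : sc F U →+ sc F W :=
  (F.obj.map (homOfLE h).op).hom

theorem rsc_rsc (F : CohTop.Ab X.toTopCat) {V W U : X.Opens} (h : W ≤ U) (h' : V ≤ W) (s : sc F U) :
    rsc F h' (rsc F h s) = rsc F (h'.trans h) s := by
  show (F.obj.map (homOfLE h).op ≫ F.obj.map (homOfLE h').op) s = _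
  rw [← Functor.map_comp]
  rfl

theorem rsc_self (F : CohTop.Ab X.toTopCat) {U : X.Opens} (h : U ≤ U) (s : sc F U) : rsc F h s = s := by
  show F.obj.map (homOfLE h).op s = s
  rw [show (homOfLE h).op = 𝟙 _ from rfl, F.obj.map_id]
  rfl

/-- Restriction of global sections. -/
def rtop (F : CohTop.Ab X.toTopCat) (U : X.Opens) : sc F (⊤ : X.Opens) →+ sc F U := rsc F le_top

theorem rsc_rtop (F : CohTop.Ab X.toTopCat) {W U : X.Opens} (h : W ≤ U) (s : sc F (⊤ : X.Opens)) :
    rsc F h (rtop F U s) = rtop F W s := rsc_rsc F _ h s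

theorem app_rsc {F G : CohTop.Ab X.toTopCat} (φ : F ⟶ G) {W U : X.Opens} (h : W ≤ U) (s : sc F U) :
    φ.hom.app (op W) (rsc F h s) = rsc G h (φ.hom.app (op U) s) :=
  NatTrans.naturality_apply φ.hom _ s

theorem app_rtop {F G : CohTop.Ab X.toTopCat} (φ : F ⟶ G) (U : X.Opens) (s : sc F (⊤ : X.Opens)) :
    φ.hom.app (op U) (rtop F U s) = rtop G U (φ.hom.app (op (⊤ : X.Opens)) s) :=
  NatTrans.naturality_apply φ.hom _ s

section Glue

variable (F : CohTop.Ab X.toTopCat) {ι : Type u} {U : ι → X.Opens}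

theorem glue_open {V : X.Opens} (hV : ∀ a, U a ≤ V) (hVU : V ≤ iSup U) (r : ∀ a, sc F (U a))
    (hr : ∀ a b (W : X.Opens) (ha : W ≤ U a) (hb : W ≤ U b), rsc F ha (r a) = rsc F hb (r b)) :
    ∃ s : sc F V, ∀ a, rsc F (hV a) s = r a := by
  obtain ⟨s, hs, -⟩ := TopCat.Sheaf.existsUnique_gluing' (X := X.toTopCat) F U V
    (fun a => homOfLE (hV a)) hVU r fun a b => hr a b _ inf_le_left inf_le_right
  exact ⟨s, hs⟩

theorem glue_top (hU : iSup U = ⊤) (r : ∀ a, sc F (U a))
    (hr : ∀ a b (W : X.Opens) (ha : W ≤ U a) (hb : W ≤ U b), rsc F ha (r a) = rsc F hb (r b)) :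
    ∃ s : sc F (⊤ : X.Opens), ∀ a, rtop F (U a) s = r a :=
  glue_open F (fun _ => le_top) hU.ge r hr

theorem ext_top (hU : iSup U = ⊤) {s t : sc F (⊤ : X.Opens)}
    (h : ∀ a, rtop F (U a) s = rtop F (U a) t) : s = t :=
  TopCat.Sheaf.eq_of_locally_eq' (X := X.toTopCat) F U ⊤ (fun _ => homOfLE le_top) hU.ge s t h

/-- Sections of an injective sheaf extend to larger opens. -/
theorem rsc_surjective [Injective F] {W V : X.Opens} (h : W ≤ V) :
    Function.Surjective (rsc F h) :=
  haveI := isFlasque_of_injective F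
  flasque_surjective F h

end Glue

section Units

/-- The function underlying a section of the units over an open. -/
def uv {W : X.Opens} (x : sc (UnitsSh.unitsAb X) W) : Γ(X, W) :=
  (UnitsSh.unitOfSect (O := X.sheaf.obj) (U := op W) x).val

theorem uv_add {W : X.Opens} (x y : sc (UnitsSh.unitsAb X) W) : uv (x + y) = uv x * uv y := rfl

theorem uv_zero {W : X.Opens} : uv (0 : sc (UnitsSh.unitsAb X) W) = 1 := rfl

theorem isUnit_uv {W : X.Opens} (x : sc (UnitsSh.unitsAb X) W) : IsUnit (uv x) := Units.isUnit _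

theorem uv_injective {W : X.Opens} : Function.Injective (uv (X := X) (W := W)) :=
  fun _ _ h => Additive.toMul.injective (Units.ext h)

theorem exists_uv_eq {W : X.Opens} {c : Γ(X, W)} (hc : IsUnit c) :
    ∃ x : sc (UnitsSh.unitsAb X) W, uv x = c :=
  ⟨UnitsSh.sectOfUnit (O := X.sheaf.obj) (U := op W) hc.unit, rfl⟩

theorem uv_rsc {W U : X.Opens} (h : W ≤ U) (x : sc (UnitsSh.unitsAb X) U) :
    uv (rsc (UnitsSh.unitsAb X) h x) = rf h (uv x) := rfl

end Units

section Delta

/-- The injective embedding sequence. -/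
abbrev seq (F : CohTop.Ab X.toTopCat) : ShortComplex (CohTop.Ab X.toTopCat) := injSES F

theorem seq_shortExact (F : CohTop.Ab X.toTopCat) : (seq F).ShortExact := injSES_shortExact F

theorem constEquiv_add {F : CohTop.Ab X.toTopCat} (a b : sc F (⊤ : X.Opens)) :
    (constEquiv F).symm (a + b) = (constEquiv F).symm a + (constEquiv F).symm b :=
  map_add (((constantSheafAdj (Opens.grothendieckTopology X) AddCommGrpCat.{u}
    (isTerminalTop (α := Opens X))).homAddEquiv _ F).trans (AddCommGrpCat.uliftZMultiplesAddEquiv _)).symm a b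

/-- The boundary of a global section. -/
def δ {S : ShortComplex (CohTop.Ab X.toTopCat)} (hS : S.ShortExact) :
    sc S.X₃ (⊤ : X.Opens) →+ CohTop.H S.X₁ 1 :=
  AddMonoidHom.mk' (fun q => (Ext.mk₀ ((constEquiv S.X₃).symm q)).comp hS.extClass (zero_add 1))
    fun a b => by rw [constEquiv_add, Ext.mk₀_add, Ext.add_comp]

theorem δ_apply {S : ShortComplex (CohTop.Ab X.toTopCat)} (hS : S.ShortExact) (q : sc S.X₃ (⊤ : X.Opens)) :
    δ hS q = (Ext.mk₀ ((constEquiv S.X₃).symm q)).comp hS.extClass (zero_add 1) := rfl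

theorem δ_surjective {S : ShortComplex (CohTop.Ab X.toTopCat)} (hS : S.ShortExact) [Injective S.X₂] :
    Function.Surjective (δ hS) := fun c => by
  obtain ⟨y, hy⟩ := Ext.covariant_sequence_exact₁ _ hS c (Ext.eq_zero_of_injective _) (zero_add 1)
  obtain ⟨φ, rfl⟩ := (Ext.mk₀_bijective _ _).2 y
  exact ⟨constEquiv _ φ, by rw [δ_apply, Equiv.symm_apply_apply]; exact hy⟩

theorem δ_eq_zero_iff {S : ShortComplex (CohTop.Ab X.toTopCat)} (hS : S.ShortExact)
    (q : sc S.X₃ (⊤ : X.Opens)) :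
    δ hS q = 0 ↔ ∃ t, S.g.hom.app (op (⊤ : X.Opens)) t = q := by
  constructor
  · intro h
    obtain ⟨y, hy⟩ := Ext.covariant_sequence_exact₃ _ hS (Ext.mk₀ ((constEquiv S.X₃).symm q)) (zero_add 1) h
    obtain ⟨φ, rfl⟩ := (Ext.mk₀_bijective _ _).2 y
    rw [Ext.mk₀_comp_mk₀] at hy
    refine ⟨constEquiv _ φ, ?_⟩
    rw [← constEquiv_comp, (Ext.mk₀_bijective _ _).1 hy, Equiv.apply_symm_apply]
  · rintro ⟨t, rfl⟩
    have h : (constEquiv S.X₃).symm (S.g.hom.app (op (⊤ : X.Opens)) t) =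
        (constEquiv S.X₂).symm t ≫ S.g := by
      apply (constEquiv S.X₃).injective
      rw [Equiv.apply_symm_apply, constEquiv_comp, Equiv.apply_symm_apply]
    rw [δ_apply, h]
    exact mk₀_comp_g_comp_extClass hS _

theorem exists_lift {S : ShortComplex (CohTop.Ab X.toTopCat)} (hS : S.ShortExact)
    (q : sc S.X₃ (⊤ : X.Opens)) (x : X) :
    ∃ (U : X.Opens) (r : sc S.X₂ U), x ∈ U ∧ S.g.hom.app (op U) r = rtop S.X₃ U q := by
  obtain ⟨V, h, i, hx, hi⟩ := exists_local_lift hS (U := (⊤ : X.Opens)) q (x := x) trivial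
  exact ⟨V, i, hx, hi⟩

theorem injective_app {S : ShortComplex (CohTop.Ab X.toTopCat)} (hS : S.ShortExact) (W : X.Opens) :
    Function.Injective (S.f.hom.app (op W)) := by
  haveI := hS.mono_f
  exact (AddCommGrpCat.mono_iff_injective _).1
    (inferInstanceAs (Mono ((sheafToPresheaf _ _ ⋙ (evaluation _ _).obj (op W)).map S.f)))

theorem exists_eq_app {S : ShortComplex (CohTop.Ab X.toTopCat)} (hS : S.ShortExact) (W : X.Opens)
    (r : sc S.X₂ W) (h : S.g.hom.app (op W) r = 0) : ∃ u, S.f.hom.app (op W) u = r := by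
  haveI := hS.mono_f
  exact (ShortComplex.ab_exact_iff _).1 ((ShortComplex.exact_and_mono_f_iff_of_iso (Iso.refl _)).1
    ⟨(hS.exact.map_of_mono_of_preservesKernel (sheafToPresheaf _ _ ⋙ (evaluation _ _).obj (op W))
      inferInstance inferInstance), inferInstanceAs (Mono ((sheafToPresheaf _ _ ⋙
        (evaluation _ _).obj (op W)).map S.f))⟩).1 r h

end Delta

end Groth.Agent.Lib.ZarH1Units.Zar
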